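import Mathlib.RingTheory.OrderOfVanishing.Basic
import Mathlib.LinearAlgebra.Dimension.Finrank
import Mathlib.LinearAlgebra.Dimension.RankNullity
import Mathlib.RingTheory.Localization.FractionRing
import Mathlib.RingTheory.Finiteness.Basic
import Mathlib.RingTheory.Nakayama
import Mathlib.Tactic.FieldSimp

/-!
# Lengths over one-dimensional domains
-/

set_option autoImplicit false

universe u v

namespace GrothLib.DimOneLen

variable {R : Type u} [CommRing R] [IsDomain R]
  {K : Type u} [Field K] [Algebra R K] [IsFractionRing R K]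
  {V : Type v} [AddCommGroup V] [Module K V] [Module R V] [IsScalarTower R K V]

theorem exists_smul_mem (M : Submodule R V) {v : V} (hv : v ∈ Submodule.span K (M : Set V)) :
    ∃ d : R, d ≠ 0 ∧ d • v ∈ M := by
  induction hv using Submodule.span_induction with
  | mem x hx => exact ⟨1, one_ne_zero, by simpa using hx⟩
  | zero => exact ⟨1, one_ne_zero, by simp⟩
  | add x y _ _ hx hy =>
    obtain ⟨a, ha, hax⟩ := hx
    obtain ⟨b, hb, hby⟩ := hy
    refine ⟨a * b, mul_ne_zero ha hb, ?_⟩
    rw [smul_add]
    refine M.add_mem ?_ ?_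
    · rw [mul_comm, mul_smul]; exact M.smul_mem b hax
    · rw [mul_smul]; exact M.smul_mem a hby
  | smul c x _ hx =>
    obtain ⟨a, ha, hax⟩ := hx
    obtain ⟨p, q, hq, hc⟩ := IsFractionRing.div_surjective R c
    have hq0 : q ≠ 0 := nonZeroDivisors.ne_zero hq
    refine ⟨q * a, mul_ne_zero hq0 ha, ?_⟩
    have : (q * a) • c • x = p • (a • x) := by
      rw [← algebraMap_smul K, ← algebraMap_smul K p, ← algebraMap_smul K a, smul_smul, smul_smul, ← hc, map_mul]
      congr 1
      field_simp [IsFractionRing.to_map_ne_zero_of_mem_nonZeroDivisors hq]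
    rw [this]
    exact M.smul_mem p hax

/-- A common denominator. -/
theorem exists_smul_le (M N : Submodule R V) (hN : N.FG) (h : (N : Set V) ⊆ Submodule.span K (M : Set V)) :
    ∃ d : R, d ≠ 0 ∧ ∀ v ∈ N, d • v ∈ M := by
  classical
  obtain ⟨s, rfl⟩ := hN
  choose! d hd hmem using fun v (hv : v ∈ s) => exists_smul_mem M (h (Submodule.subset_span hv))
  refine ⟨∏ v ∈ s, d v, Finset.prod_ne_zero_iff.mpr hd, fun v hv => ?_⟩
  have hle : Submodule.span R (s : Set V) ≤ M.comap (LinearMap.lsmul R V (∏ v ∈ s, d v)) := by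
    refine Submodule.span_le.mpr fun w hw => ?_
    show (∏ v ∈ s, d v) • w ∈ M
    rw [← Finset.prod_erase_mul s d hw, mul_smul]
    exact M.smul_mem _ (hmem w hw)
  exact hle hv

variable [IsNoetherianRing R]

theorem isFiniteLength_of_smul_eq_zero [Ring.KrullDimLE 1 R] {N : Type v} [AddCommGroup N] [Module R N]
    [Module.Finite R N] {d : R} (hd : d ≠ 0) (h : ∀ x : N, d • x = 0) : IsFiniteLength R N := by
  obtain ⟨-, hart⟩ := isFiniteLength_iff_isNoetherian_isArtinian.mp
    (isFiniteLength_quotient_span_singleton R (mem_nonZeroDivisors_of_ne_zero hd))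
  obtain ⟨n, f, hf⟩ := Module.Finite.exists_fin' R N
  let g : (Fin n → R ⧸ Ideal.span {d}) →ₗ[R] N := ∑ i : Fin n,
    (Submodule.liftQ (Ideal.span {d}) (f ∘ₗ LinearMap.single R (fun _ => R) i) (fun r hr => by
      obtain ⟨c, rfl⟩ := Ideal.mem_span_singleton'.mp hr
      show f (Pi.single i (c * d)) = 0
      rw [show (Pi.single i (c * d) : Fin n → R) = d • Pi.single i c by
        rw [← Pi.single_smul, smul_eq_mul, mul_comm], map_smul, h])) ∘ₗ LinearMap.proj i
  have hg : Function.Surjective g := fun x => by
    obtain ⟨w, rfl⟩ := hf x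
    refine ⟨fun i => Submodule.Quotient.mk (w i), ?_⟩
    simp only [g, LinearMap.coe_sum, Finset.sum_apply, LinearMap.coe_comp, Function.comp_apply,
      LinearMap.proj_apply, Submodule.liftQ_apply, LinearMap.coe_single]
    rw [← map_sum, Finset.univ_sum_single]
  exact isFiniteLength_iff_isNoetherian_isArtinian.mpr
    ⟨inferInstance, isArtinian_of_surjective _ g hg⟩

theorem exists_pow_smul_mem [IsLocalRing R] {V : Type v} [AddCommGroup V] [Module R V]
    (M M' : Submodule R V) (hM : M.FG)
    (hlen : IsFiniteLength R (M ⧸ M'.comap M.subtype)) {x : R} (hx : x ∈ IsLocalRing.maximalIdeal R) :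
    ∃ n : ℕ, ∀ v ∈ M, x ^ n • v ∈ M' := by
  haveI : Module.Finite R M := Module.Finite.iff_fg.mpr hM
  let Q := M ⧸ M'.comap M.subtype
  obtain ⟨hn, ha⟩ := isFiniteLength_iff_isNoetherian_isArtinian.mp hlen
  let L : ℕ → Submodule R Q := fun n => LinearMap.range (LinearMap.lsmul R Q (x ^ n))
  have hanti : Antitone L := antitone_nat_of_succ_le fun n => by
    rintro _ ⟨v, rfl⟩
    refine ⟨x • v, ?_⟩
    simp only [LinearMap.lsmul_apply]
    rw [← mul_smul, ← pow_succ]
  obtain ⟨n, hn'⟩ := IsArtinian.monotone_stabilizes ⟨fun m => OrderDual.toDual (L m), fun a b hab => hanti hab⟩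
  have heq : L n = L (n + 1) := hn' (n + 1) (Nat.le_succ n)
  have hbot : L n = ⊥ := by
    refine Submodule.eq_bot_of_le_smul_of_le_jacobson_bot (IsLocalRing.maximalIdeal R) _
      (IsNoetherian.noetherian _) ?_ (IsLocalRing.maximalIdeal_le_jacobson _)
    intro y hy
    rw [heq] at hy
    obtain ⟨v, rfl⟩ := hy
    simp only [LinearMap.lsmul_apply]
    rw [pow_succ', mul_smul]
    exact Submodule.smul_mem_smul hx ⟨v, rfl⟩
  refine ⟨n, fun v hv => ?_⟩
  have h0 : x ^ n • (Submodule.Quotient.mk (⟨v, hv⟩ : M) : Q) = 0 := by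
    have : (LinearMap.lsmul R Q (x ^ n)) (Submodule.Quotient.mk (⟨v, hv⟩ : M)) ∈ L n := ⟨_, rfl⟩
    rw [hbot, Submodule.mem_bot] at this
    exact this
  rw [← Submodule.Quotient.mk_smul, Submodule.Quotient.mk_eq_zero] at h0
  exact h0

omit [IsDomain R] [IsNoetherianRing R] in
theorem mem_span_smul_top {N : Type v} [AddCommGroup N] [Module R N] {x : R} {y : N} :
    y ∈ (Ideal.span {x} • ⊤ : Submodule R N) ↔ ∃ w : N, x • w = y := by
  rw [Submodule.ideal_span_singleton_smul, Submodule.mem_smul_pointwise_iff_exists]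
  simp

omit [IsDomain R] [IsNoetherianRing R] in
/-- `N/xN` and `F/xF` have the same length when `N/F` has finite length. -/
theorem length_quotient_smul_eq {N F : Type v} [AddCommGroup N] [Module R N] [AddCommGroup F] [Module R F]
    (ι : F →ₗ[R] N) (hι : Function.Injective ι) (hT : Module.length R (N ⧸ LinearMap.range ι) ≠ ⊤)
    {x : R} (hinj : Function.Injective fun v : N => x • v) :
    Module.length R (N ⧸ (Ideal.span {x} • ⊤ : Submodule R N)) =
      Module.length R (F ⧸ (Ideal.span {x} • ⊤ : Submodule R F)) := by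
  have hxFxN : (Ideal.span {x} • ⊤ : Submodule R F).map ι ≤ (Ideal.span {x} • ⊤ : Submodule R N) := by
    rw [Submodule.map_smul'']
    exact smul_mono_right _ le_top
  have hxFN : (Ideal.span {x} • ⊤ : Submodule R F).map ι ≤ LinearMap.range ι := LinearMap.map_le_range
  have hmem : ∀ v : N, v ∈ LinearMap.range ι → x • v ∈ (Ideal.span {x} • ⊤ : Submodule R F).map ι := by
    intro v hv
    obtain ⟨w, rfl⟩ := LinearMap.mem_range.mp hv
    have h1 : x • w ∈ (Ideal.span {x} • (⊤ : Submodule R F)) :=
      Submodule.smul_mem_smul (Ideal.mem_span_singleton_self x) (Submodule.mem_top (x := w))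
    exact Submodule.mem_map.mpr ⟨x • w, h1, LinearMap.map_smul ι x w⟩
  have hmem' : ∀ v : N, x • v ∈ (Ideal.span {x} • ⊤ : Submodule R F).map ι → v ∈ LinearMap.range ι := by
    intro v hv
    obtain ⟨w, hw, hwv⟩ := Submodule.mem_map.mp hv
    obtain ⟨w', rfl⟩ := mem_span_smul_top.mp hw
    exact ⟨w', hinj (by simpa using hwv)⟩
  have e1 := Module.length_eq_add_of_exact
    (Submodule.mapQ (LinearMap.range ι) ((Ideal.span {x} • ⊤ : Submodule R F).map ι)
      (LinearMap.lsmul R N x) hmem) (Submodule.factor hxFxN)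
    (by
      rw [injective_iff_map_eq_zero]
      intro y hy
      obtain ⟨v, rfl⟩ := Submodule.Quotient.mk_surjective _ y
      exact (Submodule.Quotient.mk_eq_zero _).mpr (hmem' v ((Submodule.Quotient.mk_eq_zero _).mp hy)))
    (Submodule.factor_surjective hxFxN)
    (fun y => by
      obtain ⟨v, rfl⟩ := Submodule.Quotient.mk_surjective _ y
      refine ⟨fun h => ?_, ?_⟩
      · obtain ⟨w, hw⟩ := mem_span_smul_top.mp ((Submodule.Quotient.mk_eq_zero _).mp h)
        subst hw
        exact ⟨Submodule.Quotient.mk w, rfl⟩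
      · rintro ⟨z, hz⟩
        obtain ⟨w, rfl⟩ := Submodule.Quotient.mk_surjective _ z
        rw [← hz]
        exact (Submodule.Quotient.mk_eq_zero _).mpr
          (Submodule.smul_mem_smul (Ideal.mem_span_singleton_self x) Submodule.mem_top))
  have e2 := Module.length_eq_add_of_exact
    (Submodule.mapQ (Ideal.span {x} • ⊤ : Submodule R F) ((Ideal.span {x} • ⊤ : Submodule R F).map ι) ι
      (Submodule.le_comap_map _ _))
    (Submodule.factor hxFN)
    (by
      rw [injective_iff_map_eq_zero]
      intro y hy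
      obtain ⟨v, rfl⟩ := Submodule.Quotient.mk_surjective _ y
      obtain ⟨w, hw, hwv⟩ := Submodule.mem_map.mp ((Submodule.Quotient.mk_eq_zero _).mp hy)
      rw [hι hwv] at hw
      exact (Submodule.Quotient.mk_eq_zero _).mpr hw)
    (Submodule.factor_surjective hxFN)
    (fun y => by
      obtain ⟨v, rfl⟩ := Submodule.Quotient.mk_surjective _ y
      refine ⟨fun h => ?_, ?_⟩
      · obtain ⟨w, hw⟩ := (Submodule.Quotient.mk_eq_zero _).mp h
        subst hw
        exact ⟨Submodule.Quotient.mk w, rfl⟩
      · rintro ⟨z, hz⟩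
        obtain ⟨w, rfl⟩ := Submodule.Quotient.mk_surjective _ z
        rw [← hz]
        exact (Submodule.Quotient.mk_eq_zero _).mpr ⟨w, rfl⟩)
  have := e1.symm.trans e2
  rw [add_comm _ (Module.length R (N ⧸ LinearMap.range ι))] at this
  exact WithTop.add_left_cancel hT this

/-- The bound `length (N/xN) ≤ r · ord x` for a finitely generated submodule of an `r`-dimensional space. -/
theorem length_quotient_le_of_fg [Ring.KrullDimLE 1 R] [FiniteDimensional K V] (N : Submodule R V) (hN : N.FG)
    {x : R} (hx : x ≠ 0) :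
    Module.length R (N ⧸ (Ideal.span {x} • ⊤ : Submodule R N)) ≤
      Module.finrank K V * Module.length R (R ⧸ Ideal.span {x}) := by
  classical
  obtain ⟨s, hs⟩ := hN
  obtain ⟨b, hbs, hspan, hli⟩ := exists_linearIndependent K (s : Set V)
  haveI : Fintype b := (s.finite_toSet.subset hbs).fintype
  let F : Submodule R V := Submodule.span R b
  have hFN : F ≤ N := hs ▸ Submodule.span_mono hbs
  have hsub : (N : Set V) ⊆ Submodule.span K (F : Set V) := by
    intro v hv
    rw [← hs] at hv
    have : v ∈ Submodule.span K (s : Set V) := Submodule.span_le_restrictScalars R K (s : Set V) hv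
    rw [← hspan] at this
    exact Submodule.span_mono Submodule.subset_span this
  obtain ⟨d, hd, hdN⟩ := exists_smul_le F N ⟨s, hs⟩ hsub
  have hliR : LinearIndependent R (fun v : b => (v : V)) :=
    hli.restrict_scalars (fun p q h => by
      simpa [Algebra.smul_def] using (IsFractionRing.injective R K).eq_iff.mp
        (by simpa [Algebra.smul_def] using h))
  let e : (b → R) ≃ₗ[R] F :=
    ((Module.Basis.span hliR).equivFun.symm).trans (LinearEquiv.ofEq _ _ (by simp [F]))
  -- abstract form
  let ι : F →ₗ[R] N := Submodule.inclusion hFN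
  have hι : Function.Injective ι := Submodule.inclusion_injective hFN
  haveI : Module.Finite R N := Module.Finite.iff_fg.mpr ⟨s, hs⟩
  have hT : Module.length R (N ⧸ LinearMap.range ι) ≠ ⊤ := by
    refine Module.length_ne_top_iff.mpr (isFiniteLength_of_smul_eq_zero hd fun y => ?_)
    obtain ⟨z, rfl⟩ := Submodule.Quotient.mk_surjective _ y
    rw [← Submodule.Quotient.mk_smul, Submodule.Quotient.mk_eq_zero]
    exact ⟨⟨d • (z : V), hdN _ z.2⟩, rfl⟩
  have hinj : Function.Injective fun v : N => x • v := fun p q h => Subtype.ext (by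
    have h' : algebraMap R K x • (p : V) = algebraMap R K x • (q : V) := by
      rw [algebraMap_smul, algebraMap_smul]
      exact congrArg Subtype.val h
    exact smul_right_injective V ((map_ne_zero_iff _ (IsFractionRing.injective R K)).mpr hx) h')
  have key := length_quotient_smul_eq ι hι hT hinj
  rw [key]
  let h : (b → R ⧸ Ideal.span {x}) →ₗ[R] F ⧸ (Ideal.span {x} • ⊤ : Submodule R F) :=
    ∑ i : b, (Submodule.mapQ (Ideal.span {x}) (Ideal.span {x} • ⊤ : Submodule R F) (e.toLinearMap ∘ₗ LinearMap.single R (fun _ => R) i) (fun r hr => by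
      obtain ⟨c, rfl⟩ := Ideal.mem_span_singleton'.mp hr
      show e (Pi.single i (c * x)) ∈ (Ideal.span {x} • ⊤ : Submodule R F)
      rw [show (Pi.single i (c * x) : b → R) = x • Pi.single i c by
        rw [← Pi.single_smul, smul_eq_mul, mul_comm], map_smul]
      exact Submodule.smul_mem_smul (Ideal.mem_span_singleton_self x) Submodule.mem_top)) ∘ₗ LinearMap.proj i
  have hh : Function.Surjective h := fun y => by
    obtain ⟨v, rfl⟩ := Submodule.Quotient.mk_surjective _ y
    obtain ⟨w, rfl⟩ := e.surjective v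
    refine ⟨fun i => Submodule.Quotient.mk (w i), ?_⟩
    simp only [h, LinearMap.coe_sum, Finset.sum_apply, LinearMap.coe_comp, Function.comp_apply,
      LinearMap.proj_apply, Submodule.mapQ_apply, LinearMap.coe_single, LinearEquiv.coe_coe]
    simp only [← Submodule.mkQ_apply, ← map_sum, Finset.univ_sum_single]
  refine (Module.length_le_of_surjective h hh).trans ?_
  rw [Module.length_pi, ENat.card_eq_coe_fintype_card]
  gcongr
  exact_mod_cast hli.fintype_card_le_finrank

theorem length_quotient_le [Ring.KrullDimLE 1 R] [FiniteDimensional K V] (M : Submodule R V)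
    {x : R} (hx : x ≠ 0) :
    Module.length R (M ⧸ (Ideal.span {x} • ⊤ : Submodule R M)) ≤
      Module.finrank K V * Module.length R (R ⧸ Ideal.span {x}) := by
  classical
  let Q := M ⧸ (Ideal.span {x} • ⊤ : Submodule R M)
  let B := (Module.finrank K V : ℕ∞) * Module.length R (R ⧸ Ideal.span {x})
  have hfgle : ∀ W : Submodule R Q, W.FG → Module.length R W ≤ B := by
    intro W hW
    obtain ⟨s, rfl⟩ := hW
    choose g hg using Submodule.Quotient.mk_surjective (Ideal.span {x} • ⊤ : Submodule R M)
    let N : Submodule R V := Submodule.span R ((s.image fun q => (g q : V)) : Set V)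
    have hNM : N ≤ M := Submodule.span_le.mpr fun v hv => by
      obtain ⟨q, -, rfl⟩ := Finset.mem_image.mp hv
      exact (g q).2
    let f : (N ⧸ (Ideal.span {x} • ⊤ : Submodule R N)) →ₗ[R] Q :=
      Submodule.mapQ _ _ (Submodule.inclusion hNM) (by
        rw [← Submodule.map_le_iff_le_comap, Submodule.map_smul'']
        exact smul_mono_right _ le_top)
    have hle : Submodule.span R (s : Set Q) ≤ LinearMap.range f := Submodule.span_le.mpr fun q hq =>
      ⟨Submodule.Quotient.mk ⟨(g q : V), Submodule.subset_span (Finset.mem_coe.mpr (Finset.mem_image_of_mem _ hq))⟩,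
        hg q⟩
    calc Module.length R (Submodule.span R (s : Set Q)) ≤ Module.length R (LinearMap.range f) :=
          Module.length_le_of_injective (Submodule.inclusion hle) (Submodule.inclusion_injective hle)
      _ ≤ Module.length R (N ⧸ (Ideal.span {x} • ⊤ : Submodule R N)) :=
          Module.length_le_of_surjective f.rangeRestrict f.surjective_rangeRestrict
      _ ≤ B := length_quotient_le_of_fg N ⟨_, rfl⟩ hx
  rcases eq_or_ne B ⊤ with hB | hB
  · exact le_top.trans_eq hB.symm
  obtain ⟨b, hb⟩ := ENat.ne_top_iff_exists.1 hB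
  let P : ℕ → Prop := fun n => ∃ W : Submodule R Q, W.FG ∧ Module.length R W = n
  have hP0 : P 0 := ⟨⊥, Submodule.fg_bot, by simp⟩
  obtain ⟨W, hW, hlen⟩ := Nat.findGreatest_spec (P := P) (Nat.zero_le b) hP0
  have htop : W = ⊤ := by
    refine eq_top_iff.mpr fun q _ => ?_
    by_contra hq
    have hfg : (W ⊔ Submodule.span R {q}).FG := hW.sup (Submodule.fg_span_singleton q)
    have hlt : W < W ⊔ Submodule.span R {q} := lt_of_le_of_ne le_sup_left fun h =>
      hq (h ▸ Submodule.mem_sup_right (Submodule.mem_span_singleton_self q))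
    have hle := hfgle _ hfg
    rw [← hb] at hle
    obtain ⟨m, hm⟩ := ENat.ne_top_iff_exists.1 (ne_top_of_le_ne_top (ENat.natCast_ne_top b) hle)
    have hmb : m ≤ b := by
      rw [← hm] at hle
      exact_mod_cast hle
    have hlt' : Module.length R W < Module.length R (W ⊔ Submodule.span R {q} : Submodule R Q) := by
      obtain ⟨hn', ha'⟩ := isFiniteLength_iff_isNoetherian_isArtinian.mp
        (Module.length_ne_top_iff.mp (by rw [← hm]; exact ENat.natCast_ne_top m :
          Module.length R (W ⊔ Submodule.span R {q} : Submodule R Q) ≠ ⊤))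
      have he : Module.length R (W.comap (W ⊔ Submodule.span R {q}).subtype) = Module.length R W :=
        le_antisymm (Module.length_le_of_injective (Submodule.comapSubtypeEquivOfLe hlt.le).toLinearMap
          (Submodule.comapSubtypeEquivOfLe hlt.le).injective)
          (Module.length_le_of_injective (Submodule.comapSubtypeEquivOfLe hlt.le).symm.toLinearMap
          (Submodule.comapSubtypeEquivOfLe hlt.le).symm.injective)
      rw [← he]
      exact Submodule.length_lt fun h => hlt.not_ge (Submodule.comap_subtype_eq_top.mp h)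
    rw [hlen, ← hm] at hlt'
    have : Nat.findGreatest P b < m := by exact_mod_cast hlt'
    exact absurd (Nat.le_findGreatest hmb ⟨_, hfg, hm.symm⟩) (not_le.mpr this)
  have := hfgle W hW
  rwa [htop, Module.length_top] at this

end GrothLib.DimOneLen
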